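import Groth.Agent.AffDefLib.ObstructionLinear
import Groth.Agent.ArtFunLib.ObsBound
import Groth.Agent.ArtFunLib.Square
import Groth.Agent.DefGlueLib.Schless
import Mathlib.LinearAlgebra.Dual.Lemmas
import Mathlib.LinearAlgebra.Basis.VectorSpace
import Mathlib.LinearAlgebra.FiniteDimensional.Lemmas
import Mathlib.Tactic.LinearCombination

/-! Bounds on the hull of an affine deformation functor. -/

set_option linter.style.haveILetI false

universe u v

open CategoryTheory AlgebraicGeometry ArtFun IsLocalRing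

noncomputable section

namespace Groth.Agent.AffDefLib

open Groth.Agent.ArtFunLib Groth.Agent.ArtFunLib.ObsBound

variable {k : Type u} [Field k] {A A' : Art k k} {p : A' ⟶ A} {F : Art k k ⥤ Type v}

/-- `u` lifts after dividing by the subspace `S`. -/
def LiftsMod (hp : Art.IsSemismallExt p) (F : Art k k ⥤ Type v) (u : F.obj A)
    (S : Submodule k ↥(RingHom.ker p.toAlgHom)) : Prop :=
  ∃ u', F.map (qMap hp S) u' = u

theorem liftsMod_top (hp : Art.IsSemismallExt p) (u : F.obj A) : LiftsMod hp F u ⊤ := by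
  haveI : IsIso (qMap hp ⊤) := by
    refine isIso_of_bijective _ ⟨fun a b e => ?_, (isSemismallExt_quotFactor hp _ _).1⟩
    obtain ⟨a, rfl⟩ := Art.quotMk_surjective A' _ (Kof_le_max hp ⊤) a
    obtain ⟨b, rfl⟩ := Art.quotMk_surjective A' _ (Kof_le_max hp ⊤) b
    refine Ideal.Quotient.eq.2 ⟨?_, trivial⟩
    rw [ArtFunLib.mem_ker_iff]
    exact (map_sub p.toAlgHom a b).trans (sub_eq_zero.2 e)
  exact (map_bijective_of_isIso F (qMap hp ⊤)).2 u

theorem LiftsMod.inf (h1 : S1 F) {hp : Art.IsSemismallExt p} {u : F.obj A}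
    {S T : Submodule k ↥(RingHom.ker p.toAlgHom)} (hST : S ⊔ T = ⊤) (hS : LiftsMod hp F u S)
    (hT : LiftsMod hp F u T) : LiftsMod hp F u (S ⊓ T) := by
  have le1 : Kof hp (S ⊓ T) ≤ Kof hp S := fun _ ⟨h, h'⟩ => ⟨h, h'.1⟩
  have le2 : Kof hp (S ⊓ T) ≤ Kof hp T := fun _ ⟨h, h'⟩ => ⟨h, h'.2⟩
  have k1 : Kof hp (S ⊓ T) ≤ RingHom.ker (Art.quotMk A' (Kof hp S) (Kof_le_max hp S)).toAlgHom :=
    fun x hx => Ideal.Quotient.eq_zero_iff_mem.2 (le1 hx)
  have k2 : Kof hp (S ⊓ T) ≤ RingHom.ker (Art.quotMk A' (Kof hp T) (Kof_le_max hp T)).toAlgHom :=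
    fun x hx => Ideal.Quotient.eq_zero_iff_mem.2 (le2 hx)
  let π₁ := Art.quotFactor (Kof_le_max hp (S ⊓ T)) (Art.quotMk A' (Kof hp S) (Kof_le_max hp S)) k1
  let π₂ := Art.quotFactor (Kof_le_max hp (S ⊓ T)) (Art.quotMk A' (Kof hp T) (Kof_le_max hp T)) k2
  have hsq : Art.IsFibreProd π₁ π₂ (qMap hp S) (qMap hp T) := by
    refine ⟨hom_apply_ext fun z => ?_, fun a b e₁ e₂ => ?_, fun a b e => ?_⟩
    · obtain ⟨z, rfl⟩ := Art.quotMk_surjective A' _ (Kof_le_max hp (S ⊓ T)) z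
      rfl
    · obtain ⟨a, rfl⟩ := Art.quotMk_surjective A' _ (Kof_le_max hp (S ⊓ T)) a
      obtain ⟨b, rfl⟩ := Art.quotMk_surjective A' _ (Kof_le_max hp (S ⊓ T)) b
      obtain ⟨h, h₁⟩ : a - b ∈ Kof hp S := Ideal.Quotient.eq.1 e₁
      obtain ⟨_, h₂⟩ : a - b ∈ Kof hp T := Ideal.Quotient.eq.1 e₂
      exact Ideal.Quotient.eq.2 ⟨h, h₁, h₂⟩
    · obtain ⟨a, rfl⟩ := Art.quotMk_surjective A' _ (Kof_le_max hp S) a
      obtain ⟨b, rfl⟩ := Art.quotMk_surjective A' _ (Kof_le_max hp T) b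
      have hd : a - b ∈ RingHom.ker p.toAlgHom := by
        rw [ArtFunLib.mem_ker_iff]
        exact (map_sub p.toAlgHom a b).trans (sub_eq_zero.2 e)
      obtain ⟨d₁, hd₁, d₂, hd₂, hd'⟩ := Submodule.mem_sup.1 (hST ▸ Submodule.mem_top :
        (⟨a - b, hd⟩ : ↥(RingHom.ker p.toAlgHom)) ∈ S ⊔ T)
      have hd'' : (d₁ : A') + (d₂ : A') = a - b := congrArg Subtype.val hd'
      refine ⟨Art.quotMk A' _ (Kof_le_max hp (S ⊓ T)) (a - (d₁ : A')), Ideal.Quotient.eq.2 ?_, Ideal.Quotient.eq.2 ?_⟩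
      · rw [sub_sub_cancel_left]
        exact neg_mem ((mem_Kof hp d₁).2 hd₁)
      · rw [show a - (d₁ : A') - b = (d₂ : A') by linear_combination -hd'']
        exact (mem_Kof hp d₂).2 hd₂
  obtain ⟨x, hx⟩ := hS
  obtain ⟨y, hy⟩ := hT
  obtain ⟨z, hz₁, -⟩ := exists_of_cmp_surjective (h1 π₁ π₂ _ _ hsq (isSemismallExt_quotFactor hp _ _).1) x y
    (hx.trans hy.symm)
  refine ⟨z, ?_⟩
  rw [← hx, ← hz₁, ← map_comp']
  refine congrArg (fun f => F.map f z) (hom_apply_ext fun w => ?_)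
  obtain ⟨w, rfl⟩ := Art.quotMk_surjective A' _ (Kof_le_max hp (S ⊓ T)) w
  rfl

theorem LiftsMod.inf_ker (h1 : S1 F) {hp : Art.IsSemismallExt p} {u : F.obj A}
    {S : Submodule k ↥(RingHom.ker p.toAlgHom)} (l : Module.Dual k ↥(RingHom.ker p.toAlgHom))
    (hS : LiftsMod hp F u S) (hl : LiftsMod hp F u (LinearMap.ker l)) :
    LiftsMod hp F u (LinearMap.ker l ⊓ S) := by
  by_cases h : S ≤ LinearMap.ker l
  · rwa [inf_eq_right.2 h]
  · obtain ⟨a, ha, hla⟩ : ∃ a ∈ S, l a ≠ 0 := by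
      by_contra! hc
      exact h fun x hx => LinearMap.mem_ker.2 (hc x hx)
    refine LiftsMod.inf h1 (top_unique fun x _ => ?_) hl hS
    refine Submodule.mem_sup.2 ⟨x - (l x / l a) • a, ?_, _, S.smul_mem _ ha, sub_add_cancel _ _⟩
    rw [LinearMap.mem_ker, map_sub, map_smul, smul_eq_mul, div_mul_cancel₀ _ hla, sub_self]

theorem liftsMod_finset (h1 : S1 F) (hp : Art.IsSemismallExt p) (u : F.obj A)
    (s : Finset (Module.Dual k ↥(RingHom.ker p.toAlgHom))) (hs : ∀ l ∈ s, LiftsMod hp F u (LinearMap.ker l)) :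
    LiftsMod hp F u (⨅ l ∈ s, LinearMap.ker l) := by
  classical
  induction s using Finset.induction with
  | empty => simpa using liftsMod_top hp u
  | insert l s hl ih =>
    rw [Finset.iInf_insert]
    exact LiftsMod.inf_ker h1 l (ih fun m hm => hs m (Finset.mem_insert_of_mem hm)) (hs l (Finset.mem_insert_self l s))

/-- Linear obstructions bound the part of the kernel that has to be divided out. -/
theorem liftsUpTo_of_linear (h1 : S1 F) {W : Type u} [AddCommGroup W] [Module k W] [Module.Finite k W]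
    (h : ∀ ⦃A' A : Art k k⦄ (p : A' ⟶ A) (hp : Art.IsSemismallExt p) (u : F.obj A),
      ∃ Φ : Module.Dual k ↥(RingHom.ker p.toAlgHom) →ₗ[k] W,
        ∀ l, l ≠ 0 → Φ l = 0 → LiftsMod hp F u (LinearMap.ker l)) :
    LiftsUpTo F (Module.finrank k W) := by
  classical
  intro A' A p hp u
  obtain ⟨Φ, hΦ⟩ := h p hp u
  haveI := isNoetherian_base A'
  haveI : Module.Finite k ↥(RingHom.ker p.toAlgHom) :=
    Module.Finite.of_injective ((RingHom.ker p.toAlgHom).restrictScalars k).subtype Subtype.val_injective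
  let N := LinearMap.ker Φ
  haveI : Module.Free k ↥N := Module.Free.of_divisionRing k ↥N
  let bN := Module.finBasis k N
  let s : Finset (Module.Dual k ↥(RingHom.ker p.toAlgHom)) := Finset.univ.image fun i => (bN i : Module.Dual k _)
  have hS : (⨅ l ∈ s, LinearMap.ker l) = N.dualCoannihilator := by
    refine le_antisymm (fun x hx => (Submodule.mem_dualCoannihilator _).2 fun φ hφ => ?_) (le_iInf₂ fun l hl x hx => ?_)
    · have hle : N ≤ LinearMap.ker (Module.Dual.eval k _ x) := by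
        have h0 : ∀ i, (bN i : Module.Dual k _) x = 0 := fun i => by
          have := (Submodule.mem_iInf _).1 ((Submodule.mem_iInf _).1 hx (bN i : Module.Dual k _))
            (Finset.mem_image_of_mem _ (Finset.mem_univ i))
          exact this
        intro ψ hψ
        rw [LinearMap.mem_ker, Module.Dual.eval_apply, ← show ((⟨ψ, hψ⟩ : N) : Module.Dual k _) = ψ from rfl,
          ← bN.sum_repr ⟨ψ, hψ⟩, Submodule.coe_sum, LinearMap.sum_apply]
        exact Finset.sum_eq_zero fun i _ => by simp [h0]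
      exact hle hφ
    · obtain ⟨i, -, rfl⟩ := Finset.mem_image.1 hl
      exact (Submodule.mem_dualCoannihilator _).1 hx _ (bN i).2
  have hlift : LiftsMod hp F u N.dualCoannihilator := hS ▸ liftsMod_finset h1 hp u s (fun l hl => by
    obtain ⟨i, -, rfl⟩ := Finset.mem_image.1 hl
    exact hΦ _ (fun e => bN.ne_zero i (Subtype.ext e)) (bN i).2)
  have hd : Module.finrank k ↥(N.dualCoannihilator) ≤ Module.finrank k W := by
    have e1 := Subspace.finrank_add_finrank_dualCoannihilator_eq N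
    have e2 := LinearMap.finrank_range_add_finrank_ker Φ
    have e3 := Submodule.finrank_le (LinearMap.range Φ)
    rw [Subspace.dual_finrank_eq] at e2
    change Module.finrank k (LinearMap.ker Φ) + _ = _ at e1
    omega
  let bS := Module.finBasis k ↥(N.dualCoannihilator)
  let κ : Fin (Module.finrank k W) → ↥(RingHom.ker p.toAlgHom) := fun i =>
    if h : (i : ℕ) < Module.finrank k ↥(N.dualCoannihilator) then (bS ⟨i, h⟩ : ↥(RingHom.ker p.toAlgHom)) else 0
  refine ⟨κ, Kof hp N.dualCoannihilator, Kof_le_max hp _, Kof_le_ker hp _, fun x ⟨hx, hx'⟩ => ?_, hlift⟩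
  have e := congrArg (fun z : ↥(RingHom.ker p.toAlgHom) => (z : A'))
    (congrArg Subtype.val (bS.sum_repr ⟨_, hx'⟩))
  rw [← show (((⟨x, hx⟩ : ↥(RingHom.ker p.toAlgHom))) : A') = x from rfl, ← e, Submodule.coe_sum, Submodule.coe_sum]
  refine Ideal.sum_mem _ fun i _ => ?_
  have hi : κ (Fin.castLE hd i) = (bS i : ↥(RingHom.ker p.toAlgHom)) := dif_pos i.2
  change (bS.repr _ i) • ((bS i : ↥(RingHom.ker p.toAlgHom)) : A') ∈ _
  rw [Algebra.smul_def, ← hi]
  exact Ideal.mul_mem_left _ _ (Ideal.subset_span ⟨Fin.castLE hd i, rfl⟩)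

/-- Versality transports the lifting bound to the functor of the hull. -/
theorem liftsUpTo_hR {R : Type u} [CommRing R] [Algebra k R] {res : R →ₐ[k] k} {ξ : Family R res F}
    (hξ : IsVersal ξ) {d : ℕ} (h : LiftsUpTo F d) : LiftsUpTo (hR R res) d := by
  intro A' A p hp u
  obtain ⟨κ, K, hK, hKJ, hle, y, hy⟩ := h p hp (ξ.app A u)
  obtain ⟨ψ, hψ, -⟩ := hξ (Art.quotFactor hK p hKJ) (isSemismallExt_quot hp hK hKJ).1 u y hy
  exact ⟨κ, K, hK, hKJ, hle, ψ, hψ⟩

end Groth.Agent.AffDefLib
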