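import Groth.Agent.H9HilbLink.Ring
import Groth.Agent.AffDefLib.HullBounds

/-! The dimension of the base ring of a hull. -/

set_option autoImplicit false
set_option linter.style.haveILetI false
set_option backward.isDefEq.respectTransparency false
set_option backward.isDefEq.respectTransparency.types false

universe u v

open CategoryTheory ArtFun ArtFun.Art IsLocalRing

noncomputable section

namespace Groth.Agent.AffDefLib

open Groth.Agent.ArtFunLib Groth.Agent.ArtFunLib.Hull Groth.Agent.ArtFunLib.ObsBound Groth.Agent.H9HilbLink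

variable {k : Type u} [Field k]

theorem finrank_cotangent_of_bijective {S : Type u} [CommRing S] [IsLocalRing S] [Algebra k S] {res : S →ₐ[k] k}
    {F : Art k k ⥤ Type v} {ξ : Family S res F} [IsNoetherianRing S] (hξ : Function.Bijective (ξ.app (dual k k))) [TangentStr F] :
    Module.finrank (ResidueField S) (CotangentSpace S) = Module.finrank k (TangentSpace F) := by
  obtain ⟨T⟩ := nonempty_tangentStr (F := hR S res) (hR_h0 S res) (hR_heps S res)
  obtain ⟨e⟩ := exists_dual res
  let Ξ : TangentSpace (hR S res) →ₗ[k] TangentSpace F :=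
    { toFun := TangentSpace.ofFamily ξ
      map_add' := fun φ ψ => by
        obtain ⟨z, h₁, h₂⟩ := exists_pair (hR_h0 S res) (hR_heps S res)
          (TangentSpace.val φ) (TangentSpace.val ψ)
        have hadd : φ + ψ = TangentSpace.mk ((hR S res).map plus z) := by
          rw [← tangent_add_eq, h₁, h₂]; rfl
        rw [hadd]
        change TangentSpace.mk (ξ.app _ (HomSet.map plus z)) =
          TangentSpace.mk (ξ.app _ (TangentSpace.val φ)) + TangentSpace.mk (ξ.app _ (TangentSpace.val ψ))
        refine (congrArg TangentSpace.mk (ξ.natural plus z)).trans ?_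
        rw [← h₁, ← h₂, family_natural, family_natural, tangent_add_eq]
      map_smul' := fun a φ => by
        have hsm : a • φ = TangentSpace.mk ((hR S res).map (scale a) (TangentSpace.val φ)) := by
          rw [← tangent_smul_eq]; rfl
        rw [hsm, RingHom.id_apply]
        change TangentSpace.mk (ξ.app _ (HomSet.map (scale a) (TangentSpace.val φ))) =
          a • TangentSpace.mk (ξ.app _ (TangentSpace.val φ))
        refine (congrArg TangentSpace.mk (ξ.natural (scale a) (TangentSpace.val φ))).trans ?_
        rw [tangent_smul_eq] }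
  rw [← (LinearEquiv.ofBijective Ξ hξ).finrank_eq, e.finrank_eq, Subspace.dual_finrank_eq,
    finrank_cotangent_eq res]

open IsLocalRing in
/-- A coefficient ring of maximal dimension pro-represents a smooth functor. -/
theorem isSmoothFunctor_of_dim' (R : CRing k k)
    (h : ringKrullDim R.carrier = (Module.finrank (ResidueField R.carrier) (CotangentSpace R.carrier) : WithBot ℕ∞)) :
    IsSmoothFunctor (ArtFun.hR R.carrier R.res) := by
  haveI := R.isAdicComplete
  let bs := Module.finBasis (ResidueField R.carrier) (CotangentSpace R.carrier)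
  choose b hb using fun i => (maximalIdeal R.carrier).toCotangent_surjective (bs i)
  obtain ⟨π, hπ⟩ := PSLib.exists_algHom (R := k) (maximalIdeal R.carrier) (fun i => (b i).1) fun i => (b i).2
  have hres : Function.Surjective ((residue R.carrier).comp (algebraMap k R.carrier)) := (residue_bijective R.res).2
  have hgen := PSLib.le_span_sup_sq (b := fun i => (b i).1) (fun i => (b i).2) (by
    rw [show (fun i => (maximalIdeal R.carrier).toCotangent ⟨(b i).1, (b i).2⟩) = bs from funext hb]
    exact bs.span_eq)
  have hsurj := PSLib.surjective_of_span hres π (fun i => by rw [hπ]; exact (b i).2) (by simpa only [hπ] using hgen)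
  have hbij := PSLib.bijective_of_surjective k _ π.toRingHom hsurj h
  let e := AlgEquiv.ofBijective π hbij
  intro B A μ hμ φ
  let φ' : HomSet R.carrier R.res A := φ
  obtain ⟨ψ, hψ⟩ := ObsHR.isSmoothFunctor_powerSeries (R.res.comp π) μ hμ
    (⟨φ'.1.comp π, by rw [← AlgHom.comp_assoc, φ'.2]⟩ : HomSet _ (R.res.comp π) A)
  let ψ' : HomSet _ (R.res.comp π) B := ψ
  refine ⟨(⟨ψ'.1.comp e.symm.toAlgHom, AlgHom.ext fun r => ?_⟩ : HomSet R.carrier R.res B), Subtype.ext (AlgHom.ext fun r => ?_)⟩
  · exact (congr($(ψ'.2) (e.symm r))).trans (congrArg R.res (e.apply_symm_apply r))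
  · exact (congr($(congrArg Subtype.val hψ) (e.symm r))).trans (congrArg φ'.1 (e.apply_symm_apply r))

theorem liftsUpTo_zero {F : Art k k ⥤ Type v} (h : IsSmoothFunctor F) : LiftsUpTo F 0 := by
  intro A' A p hp u
  have hm : (⊥ : Ideal A') ≤ maximalIdeal A' := bot_le
  exact ⟨Fin.elim0, ⊥, hm, bot_le, bot_le, h (Art.quotFactor hm p bot_le) (isSemismallExt_quot hp hm bot_le).1 u⟩

/-- The dimension bounds for a hull. -/
theorem hull_bounds {F : Art k k ⥤ Type v} (H : Hull F) [TangentStr F] :
    ringKrullDim H.ring.carrier ≤ (Module.finrank k (TangentSpace F) : WithBot ℕ∞) ∧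
      (∀ d : ℕ, LiftsUpTo F d →
        (Module.finrank k (TangentSpace F) : WithBot ℕ∞) ≤ ringKrullDim H.ring.carrier + (d : WithBot ℕ∞)) ∧
      (H0 F → (ringKrullDim H.ring.carrier = (Module.finrank k (TangentSpace F) : WithBot ℕ∞) ↔ IsSmoothFunctor F)) := by
  obtain ⟨n, π, hπ, hJ⟩ := ObsHR.exists_minimal_presentation H.ring
  haveI := PSLib.isRegularLocalRing k n
  have hc := finrank_cotangent_of_bijective (ξ := H.family) H.miniversal.2
  have hv := H.miniversal.1
  have hupper : ringKrullDim H.ring.carrier ≤ (Module.finrank k (TangentSpace F) : WithBot ℕ∞) := by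
    rw [← hc, ← IsLocalRing.spanFinrank_maximalIdeal_eq_finrank_cotangentSpace]
    exact ringKrullDim_le_spanFinrank_maximalIdeal _
  have hlower : ∀ d : ℕ, LiftsUpTo F d →
      (Module.finrank k (TangentSpace F) : WithBot ℕ∞) ≤ ringKrullDim H.ring.carrier + (d : WithBot ℕ∞) :=
    fun d hd => hc ▸ (bounds_of_lifts H.ring.res π hπ hJ (liftsUpTo_hR hv hd)).2.1
  refine ⟨hupper, hlower, fun h0 => ⟨fun he B A μ hμ y => ?_, fun hs => le_antisymm hupper ?_⟩⟩
  · rw [← hc] at he
    have hR := isSmoothFunctor_of_dim' H.ring he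
    let b₀ : HomSet H.ring.carrier H.ring.res (Art.base k k) := ⟨H.ring.res, AlgHom.ext fun _ => rfl⟩
    obtain ⟨φ, -, hφ⟩ := hv (Art.toBase A) A.res_surjective b₀ y (@Subsingleton.elim _ h0.2 _ _)
    obtain ⟨ψ, hψ⟩ := hR μ hμ φ
    exact ⟨H.family.app B ψ, (H.family.natural μ ψ).symm.trans ((congrArg (H.family.app A) hψ).trans hφ)⟩
  · have := hlower 0 (liftsUpTo_zero hs)
    simpa using this

end Groth.Agent.AffDefLib
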