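import Groth.Agent.AffDefLib.Obstruction
import Groth.Agent.ArtFunLib.Basic
import Groth.Prelude.Def_ArtFun3

/-! The obstruction to lifting an affine deformation along a semismall extension, as a linear map on the dual
of the kernel. -/

universe u

open CategoryTheory AlgebraicGeometry TensorProduct

noncomputable section

namespace Groth.Agent.AffDefLib

open ArtFun CotT

set_option linter.style.haveILetI false

variable {k : Type u} [Field k] {A A' : Art k k} {p : A' ⟶ A}

/-- The ideal given by a subspace of the kernel of a semismall extension. -/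
def Kof (hp : Art.IsSemismallExt p) (S : Submodule k ↥(RingHom.ker p.toAlgHom)) : Ideal A' where
  carrier := {x | ∃ h : x ∈ RingHom.ker p.toAlgHom, (⟨x, h⟩ : ↥(RingHom.ker p.toAlgHom)) ∈ S}
  zero_mem' := ⟨zero_mem _, S.zero_mem⟩
  add_mem' := fun ⟨ha, ha'⟩ ⟨hb, hb'⟩ => ⟨add_mem ha hb, S.add_mem ha' hb'⟩
  smul_mem' := fun c x ⟨hx, hx'⟩ => by
    refine ⟨Ideal.mul_mem_left _ c hx, ?_⟩
    have h2 : c • x = A'.res c • x := by
      have hm : c - algebraMap k A' (A'.res c) ∈ IsLocalRing.maximalIdeal A' := by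
        rw [Art.mem_maximalIdeal_iff, map_sub, AlgHom.commutes]
        exact sub_self _
      have h := j_mul_mem hp _ hm x hx
      rw [sub_mul, sub_eq_zero] at h
      rw [smul_eq_mul, h, Algebra.smul_def]
    convert S.smul_mem (A'.res c) hx' using 1
    exact Subtype.ext h2

theorem Kof_le_ker (hp : Art.IsSemismallExt p) (S : Submodule k ↥(RingHom.ker p.toAlgHom)) :
    Kof hp S ≤ RingHom.ker p.toAlgHom := fun _ ⟨h, _⟩ => h

theorem Kof_le_max (hp : Art.IsSemismallExt p) (S : Submodule k ↥(RingHom.ker p.toAlgHom)) :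
    Kof hp S ≤ IsLocalRing.maximalIdeal A' := (Kof_le_ker hp S).trans (kerP_le p)

theorem mem_Kof (hp : Art.IsSemismallExt p) {S : Submodule k ↥(RingHom.ker p.toAlgHom)}
    (x : ↥(RingHom.ker p.toAlgHom)) : (x : A') ∈ Kof hp S ↔ x ∈ S :=
  ⟨fun ⟨_, h⟩ => h, fun h => ⟨x.2, h⟩⟩

/-- `A'/K → A` -/
abbrev qMap (hp : Art.IsSemismallExt p) (S : Submodule k ↥(RingHom.ker p.toAlgHom)) :
    Art.quot A' (Kof hp S) (Kof_le_max hp S) ⟶ A :=
  Art.quotFactor (Kof_le_max hp S) p (Kof_le_ker hp S)

theorem isSemismallExt_quotFactor (hp : Art.IsSemismallExt p) {K : Ideal A'}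
    (hKm : K ≤ IsLocalRing.maximalIdeal A') (hKJ : K ≤ RingHom.ker p.toAlgHom) :
    Art.IsSemismallExt (Art.quotFactor hKm p hKJ) := by
  refine ⟨fun y => ?_, eq_bot_iff.2 (Ideal.mul_le.2 fun x hx y hy => ?_)⟩
  · obtain ⟨z, hz⟩ := hp.1 y; exact ⟨Art.quotMk A' K hKm z, hz⟩
  · obtain ⟨x, rfl⟩ := Art.quotMk_surjective A' K hKm x
    obtain ⟨y, rfl⟩ := Art.quotMk_surjective A' K hKm y
    have hxy : x * y = 0 := by
      rw [← Ideal.mem_bot, ← hp.2]
      refine Ideal.mul_mem_mul ?_ hy
      rw [Art.mem_maximalIdeal_iff] at hx ⊢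
      exact hx
    rw [Ideal.mem_bot]
    show Art.quotMk A' K hKm x * Art.quotMk A' K hKm y = 0
    exact ((map_mul (Art.quotMk A' K hKm).toAlgHom x y).symm.trans (congrArg _ hxy)).trans (map_zero _)

variable {B₀ : Type u} [CommRing B₀] [Algebra k B₀]
variable (D : AlgDef k B₀ A) {ι σ : Type u} (P : Algebra.Presentation k B₀ ι σ)

variable (p) in
/-- The extension of the kernel to the polynomial ring. -/
abbrev kerL : Ideal (LRing A' P) := (RingHom.ker p.toAlgHom).map (algebraMap A' (LRing A' P))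

theorem kerL_le_kerD : kerL p P ≤ kerD p D P := Ideal.map_le_iff_le_comap.2 fun c hc => by
  show toD p D P (MvPolynomial.C c) = 0
  rw [toD_C, show p c = 0 from hc, map_zero]

theorem maxR_mul_kerL (hp : Art.IsSemismallExt p) : maxR A' P * kerL p P = ⊥ := by
  rw [maxR, ← Ideal.map_mul, hp.2, Ideal.map_bot]

theorem semismall_inf_le (hp : Art.IsSemismallExt p) :
    kerD p D P ⊓ maxR A' P ≤ maxR A' P * kerD p D P ⊔ kerL p P := by
  letI : Algebra A' D.carrier := ((algebraMap A D.carrier).comp p.toAlgHom.toRingHom).toAlgebra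
  have hAB : ∀ (c : A') (b : D.carrier), c • b = p c • b := fun c b => by
    rw [Algebra.smul_def (p c) b]
    rfl
  haveI := free_of_flat_artinian (R := A) D.carrier
  let κ := Module.Free.ChooseBasisIndex A D.carrier
  let bas : Module.Basis κ A D.carrier := Module.Free.chooseBasis A D.carrier
  choose e he using fun i => toD_surjective (D := D) P hp.1 (bas i)
  let π : (κ →₀ A') →ₗ[A'] D.carrier := Finsupp.linearCombination A' bas
  have hπker : ∀ v, π v = 0 → ∀ i, p (v i) = 0 := by
    intro v hv i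
    have h1 : Finsupp.linearCombination A bas (v.mapRange (fun c => p c) (map_zero _)) = 0 := by
      refine Eq.trans ?_ hv
      change _ = Finsupp.linearCombination A' (⇑bas) v
      rw [Finsupp.linearCombination_apply, Finsupp.linearCombination_apply,
        Finsupp.sum_mapRange_index (fun i => zero_smul A (bas i))]
      exact Finsupp.sum_congr fun i _ => (hAB _ _).symm
    have h2 : v.mapRange (fun c => p c) (map_zero _) = 0 :=
      bas.linearIndependent (h1.trans (map_zero _).symm)
    simpa using DFunLike.congr_fun h2 i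
  let σl : LRing A' P →ₗ[A'] D.carrier :=
    { toFun := toD p D P
      map_add' := map_add _
      map_smul' := fun c x => by
        rw [RingHom.id_apply, Algebra.smul_def, map_mul, Algebra.smul_def]
        exact congrArg (· * _) (toD_C P c) }
  have hπs : Function.Surjective π := fun b => by
    obtain ⟨v, rfl⟩ : ∃ v, Finsupp.linearCombination A bas v = b :=
      LinearMap.range_eq_top.1 (by rw [Finsupp.range_linearCombination, bas.span_eq]) b
    induction v using Finsupp.induction with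
    | zero => exact ⟨0, by rw [map_zero, map_zero]⟩
    | single_add i a v _ _ ih =>
      obtain ⟨v', hv'⟩ := ih
      obtain ⟨a', rfl⟩ := hp.1 a
      refine ⟨Finsupp.single i a' + v', ?_⟩
      rw [map_add, hv', map_add, Finsupp.linearCombination_single]
      congr 1
      exact (hAB _ _).trans (Finsupp.linearCombination_single A (v := ⇑bas) (p a') i).symm
  obtain ⟨L, hL⟩ := Module.projective_lifting_property π σl hπs
  have hL' : ∀ x, π (L x) = toD p D P x := LinearMap.congr_fun hL
  let Φ := Finsupp.linearCombination A' e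
  have hΦ : ∀ v, toD p D P (Φ v) = π v := LinearMap.congr_fun
    (show σl ∘ₗ Finsupp.linearCombination A' e = π from Finsupp.lhom_ext fun i a => by
      change σl (Finsupp.linearCombination A' e (Finsupp.single i a)) =
        Finsupp.linearCombination A' (⇑bas) (Finsupp.single i a)
      rw [Finsupp.linearCombination_single, Finsupp.linearCombination_single, map_smul]
      exact congrArg (a • ·) (he i))
  intro x hx
  obtain ⟨hxK, hxm⟩ := Submodule.mem_inf.1 hx
  let Ψ : LRing A' P →ₗ[A'] LRing A' P := LinearMap.id - Φ ∘ₗ L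
  have hΨK : ∀ y, Ψ y ∈ kerD p D P := fun y => by
    change toD p D P (y - Φ (L y)) = 0
    rw [map_sub, hΦ, hL', sub_self]
  have hxm' : x ∈ IsLocalRing.maximalIdeal A' • (⊤ : Submodule A' (LRing A' P)) := by
    rw [Ideal.smul_top_eq_map]
    exact hxm
  have h1 : Ψ x ∈ maxR A' P * kerD p D P := by
    refine Submodule.smul_induction_on hxm' (fun c hc z _ => ?_) fun y z hy hz => ?_
    · rw [map_smul, Algebra.smul_def]
      exact Ideal.mul_mem_mul (Ideal.mem_map_of_mem _ hc) (hΨK z)
    · rw [map_add]; exact add_mem hy hz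
  have h2 : Φ (L x) ∈ kerL p P := by
    change Finsupp.linearCombination A' e (L x) ∈ _
    rw [Finsupp.linearCombination_apply]
    refine Submodule.sum_mem _ fun i _ => ?_
    beta_reduce
    rw [Algebra.smul_def]
    exact Ideal.mul_mem_right _ _ (Ideal.mem_map_of_mem _ (hπker _ ((hL' x).trans hxK) i))
  exact (sub_add_cancel x (Φ (L x))) ▸ Submodule.add_mem_sup h1 h2

theorem semismall_kerD_le (hp : Art.IsSemismallExt p) (F : σ → LRing A' P) (hF : ∀ s, toD p D P (F s) = 0)
    (hFred : ∀ s, red P (F s) = rel P s) :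
    kerD p D P ≤ Ideal.span (Set.range F) ⊔ kerL p P := by
  obtain ⟨n, hn⟩ := maxR_pow_eq_bot (A' := A') P
  refine le_of_le_sup_mul (maxR A' P) _ _ (n := n) (by rw [hn, Ideal.bot_mul]; exact bot_le) fun x hx => ?_
  have h1 : red P x ∈ Ideal.map (red (C' := A') P) (Ideal.span (Set.range F)) := by
    rw [Ideal.map_span, ← Set.range_comp, show (red P ∘ F) = rel P from funext hFred]
    have h2 : red P x ∈ P.toExtension.ker := red_mem_ker P hx
    have h3 : red P x ∈ LinearMap.range (jmap P) := by rw [range_jmap]; exact h2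
    rw [jmap, Finsupp.range_linearCombination] at h3
    exact h3
  obtain ⟨y, hy, hyx⟩ := (Ideal.mem_map_iff_of_surjective _ (red_surjective P)).1 h1
  have hyK : y ∈ kerD p D P := (Ideal.span_le.2 (by rintro _ ⟨s, rfl⟩; exact hF s) : _ ≤ kerD p D P) hy
  have h3 : x - y ∈ maxR A' P := by rw [← ker_red, RingHom.mem_ker, map_sub, hyx, sub_self]
  have h4 := semismall_inf_le D P hp (Submodule.mem_inf.2 ⟨sub_mem hx hyK, h3⟩)
  rw [← sub_add_cancel x y]
  refine add_mem ?_ (Submodule.mem_sup_left (Submodule.mem_sup_left hy))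
  have h5 : maxR A' P * kerD p D P ⊔ kerL p P ≤
      Ideal.span (Set.range F) ⊔ kerL p P ⊔ maxR A' P * kerD p D P :=
    sup_le le_sup_right (le_sup_right.trans le_sup_left)
  exact h5 h4

theorem exists_gen_lifts (hp : Art.IsSemismallExt p) [Fintype σ] {n : ℕ}
    (b : Module.Basis (Fin n) k ↥(RingHom.ker p.toAlgHom))
    (F : σ → LRing A' P) (hF : ∀ s, toD p D P (F s) = 0) (hFred : ∀ s, red P (F s) = rel P s) (q : relKer P) :
    ∃ (Q : σ → LRing A' P) (g : Fin n → LRing A' P), (∀ s, red P (Q s) = (q : relMod P) s) ∧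
      ∑ s, Q s * F s = ∑ i, MvPolynomial.C (b i : A') * g i := by
  classical
  choose Q hQ using fun s => red_surjective (C' := A') P ((q : relMod P) s)
  have hxK : ∑ s, Q s * F s ∈ kerD p D P := Ideal.sum_mem _ fun s _ => Ideal.mul_mem_left _ _ (hF s)
  have hxm : ∑ s, Q s * F s ∈ maxR A' P := by
    rw [← ker_red, RingHom.mem_ker, map_sum]
    have hq : jmap P (q : relMod P) = 0 := q.2
    rw [jmap_eq_sum] at hq
    refine Eq.trans (Finset.sum_congr rfl fun s _ => ?_) hq
    rw [map_mul, hQ, hFred]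
  have hle : maxR A' P * kerD p D P ⊔ kerL p P ≤ maxR A' P * Ideal.span (Set.range F) ⊔ kerL p P := by
    refine sup_le ?_ le_sup_right
    refine (Ideal.mul_mono_right (semismall_kerD_le D P hp F hF hFred)).trans ?_
    rw [Ideal.mul_sup, maxR_mul_kerL P hp, sup_bot_eq]
    exact le_sup_left
  obtain ⟨y, hy, z, hz, hyz⟩ := Submodule.mem_sup.1 (hle (semismall_inf_le D P hp (Submodule.mem_inf.2 ⟨hxK, hxm⟩)))
  obtain ⟨u, hu, rfl⟩ := exists_coeffs P F hy
  have hz' : kerL p P ≤ Ideal.span (Set.range fun i => (MvPolynomial.C (b i : A') : LRing A' P)) := by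
    refine Ideal.map_le_iff_le_comap.2 fun c hc => ?_
    rw [Ideal.mem_comap]
    have hc' : c = ∑ i, algebraMap k A' (b.repr ⟨c, hc⟩ i) * (b i : A') := by
      conv_lhs => rw [show c = ((⟨c, hc⟩ : ↥(RingHom.ker p.toAlgHom)) : A') from rfl, ← b.sum_repr ⟨c, hc⟩]
      rw [Submodule.coe_sum]
      exact Finset.sum_congr rfl fun i _ => Algebra.smul_def _ _
    rw [hc', map_sum]
    refine Ideal.sum_mem _ fun i _ => ?_
    rw [map_mul]
    exact Ideal.mul_mem_left _ _ (Ideal.subset_span ⟨i, rfl⟩)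
  obtain ⟨g, hg⟩ := Ideal.mem_span_range_iff_exists_fun.1 (hz' hz)
  refine ⟨fun s => Q s - u s, g, fun s => ?_, ?_⟩
  · have := hu s
    rw [← ker_red, RingHom.mem_ker] at this
    rw [map_sub, hQ, this, sub_zero]
  · simp only [sub_mul, Finset.sum_sub_distrib]
    rw [← hyz, add_sub_cancel_left, ← hg]
    exact Finset.sum_congr rfl fun i _ => mul_comm _ _

theorem red_map {A'' : Art k k} (g : A' ⟶ A'') (r : LRing A' P) :
    red P (MvPolynomial.map g.toAlgHom.toRingHom r : LRing A'' P) = red P r := by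
  induction r using MvPolynomial.induction_on with
  | C c => rw [MvPolynomial.map_C, red_C, red_C]; exact congrArg _ (Art.res_app g c)
  | add a b ha hb => rw [map_add, map_add, map_add, ha, hb]
  | mul_X a i ha => rw [map_mul, map_mul, map_mul, MvPolynomial.map_X, red_X, red_X, ha]

theorem toD_map {A'' : Art k k} (g : A' ⟶ A'') (p' : A'' ⟶ A) (h : ∀ c, p' (g c) = p c) (r : LRing A' P) :
    toD p' D P (MvPolynomial.map g.toAlgHom.toRingHom r : LRing A'' P) = toD p D P r := by
  induction r using MvPolynomial.induction_on with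
  | C c => rw [MvPolynomial.map_C, toD_C, toD_C]; exact congrArg _ (h c)
  | add a b ha hb => rw [map_add, map_add, map_add, ha, hb]
  | mul_X a i ha =>
    rw [map_mul, map_mul, map_mul, MvPolynomial.map_X, ha]
    congr 1
    exact (MvPolynomial.eval₂Hom_X' _ _ _).trans (MvPolynomial.eval₂Hom_X' _ _ _).symm

set_option maxHeartbeats 800000 in
theorem exists_delta [Fintype σ] [DecidableEq σ] (hp : Art.IsSemismallExt p) {n : ℕ}
    (b : Module.Basis (Fin n) k ↥(RingHom.ker p.toAlgHom))
    (F : σ → LRing A' P) (hF : ∀ s, toD p D P (F s) = 0) (hFred : ∀ s, red P (F s) = rel P s)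
    (Q : relKer P → σ → LRing A' P) (g : relKer P → Fin n → LRing A' P)
    (hQ : ∀ (q : relKer P) s, red P (Q q s) = (q : relMod P) s)
    (hQg : ∀ q, ∑ s, Q q s * F s = ∑ i, MvPolynomial.C (b i : A') * g q i)
    (l : Module.Dual k ↥(RingHom.ker p.toAlgHom)) (hl : l ≠ 0) :
    ∃ δ : L2 P →ₗ[B₀] B₀,
      (∀ q, δ (CotTLib.cl P q) = ∑ i, algebraMap k B₀ (l (b i)) * algebraMap P.toExtension.Ring B₀ (red P (g q i))) ∧
      Art.IsSmallExt (qMap hp (LinearMap.ker l)) ∧
      (toT2 P B₀ δ = 0 → ∃ D' f, AlgDef.IsBC (qMap hp (LinearMap.ker l)) D' D f) := by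
  let K := Kof hp (LinearMap.ker l)
  let mk := Art.quotMk A' K (Kof_le_max hp _)
  let mq : LRing A' P →+* LRing (Art.quot A' K (Kof_le_max hp _)) P := MvPolynomial.map mk.toAlgHom.toRingHom
  let Aq := Art.quot A' K (Kof_le_max hp _)
  have hmk : ∀ x y : ↥(RingHom.ker p.toAlgHom), l x = l y → mk (x : A') = mk (y : A') := fun x y e => by
    refine Ideal.Quotient.eq.2 ?_
    exact (mem_Kof hp (x - y)).2 (by rw [LinearMap.mem_ker, map_sub, e, sub_self])
  obtain ⟨x₁, hx₁⟩ : ∃ x, l x = 1 := by
    obtain ⟨x, hx⟩ : ∃ x, l x ≠ 0 := by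
      by_contra! h
      exact hl (LinearMap.ext h)
    exact ⟨(l x)⁻¹ • x, by rw [map_smul, smul_eq_mul, inv_mul_cancel₀ hx]⟩
  let j : Aq := mk (x₁ : A')
  have hgen : ∀ x : ↥(RingHom.ker p.toAlgHom), mk (x : A') = algebraMap k (Aq) (l x) * j := fun x => by
    rw [hmk x (l x • x₁) (by rw [map_smul, hx₁, smul_eq_mul, mul_one])]
    show Ideal.Quotient.mk K ((l x) • (x₁ : A')) = _
    rw [Algebra.smul_def, map_mul]
    rfl
  have hss := isSemismallExt_quotFactor hp (Kof_le_max hp (LinearMap.ker l)) (Kof_le_ker hp _)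
  have hj : RingHom.ker (qMap hp (LinearMap.ker l)).toAlgHom = Ideal.span {j} := by
    refine le_antisymm (fun z hz => ?_) ((Ideal.span_singleton_le_iff_mem _).2 x₁.2)
    obtain ⟨x, rfl⟩ := Art.quotMk_surjective A' K (Kof_le_max hp _) z
    exact Ideal.mem_span_singleton'.2 ⟨_, (hgen ⟨x, hz⟩).symm⟩
  have hj0 : ∀ c : k, algebraMap k (Aq) c * j = 0 → c = 0 := fun c hc => by
    have h : (c • (x₁ : A')) ∈ K := by
      refine Ideal.Quotient.eq_zero_iff_mem.1 ?_
      rw [Algebra.smul_def, map_mul]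
      exact hc
    have h' : c • x₁ ∈ LinearMap.ker l := (mem_Kof hp (c • x₁)).1 h
    rwa [LinearMap.mem_ker, map_smul, hx₁, smul_eq_mul, mul_one] at h'
  have hjc : ∀ c, j * c = 0 ↔ (Aq).res c = 0 := fun c => by
    have hc : j * c = algebraMap k (Aq) ((Aq).res c) * j := by
      have hm : c - algebraMap k (Aq) ((Aq).res c) ∈ IsLocalRing.maximalIdeal (Aq) := by
        rw [Art.mem_maximalIdeal_iff, map_sub, AlgHom.commutes]
        exact sub_self _
      have h := j_mul_mem hss _ hm j (hj ▸ Ideal.mem_span_singleton_self j)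
      rw [sub_mul, sub_eq_zero] at h
      rw [mul_comm, h]
    rw [hc]
    exact ⟨hj0 _, fun h => by rw [h, map_zero, zero_mul]⟩
  have hsmall : Art.IsSmallExt (qMap hp (LinearMap.ker l)) := by
    refine ⟨hss.1, fun h => one_ne_zero (hj0 1 ?_), ⟨j, hj⟩, hss.2⟩
    rw [map_one, one_mul]
    exact (Submodule.mem_bot _).1 (h ▸ hj ▸ Ideal.mem_span_singleton_self j)
  obtain ⟨δ, hδ⟩ := exists_obstruction D P hsmall hj hjc (fun s => mq (F s))
    (fun s => (toD_map D P mk (qMap hp (LinearMap.ker l)) (fun _ => rfl) _).trans (hF s)) (fun s => (red_map P mk _).trans (hFred s))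
  refine ⟨δ, fun q => ?_, hsmall, fun h0 => ?_⟩
  swap
  · obtain ⟨F', hF', hF'red, hrel⟩ := exists_exact_lifts_of_class D P hsmall hj hjc
      (fun s => mq (F s)) (fun s => (toD_map D P mk (qMap hp (LinearMap.ker l)) (fun _ => rfl) _).trans (hF s))
      (fun s => (red_map P mk _).trans (hFred s)) δ hδ h0
    exact exists_isBC_of_exact D P hsmall hj hjc F' hF' hF'red hrel
  obtain ⟨Q', g', hQ', hQg', hg'⟩ := hδ q
  let G : LRing (Aq) P := ∑ i, MvPolynomial.C (algebraMap k (Aq) (l (b i))) * mq (g q i)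
  have hG : ∑ s, mq (Q q s) * mq (F s) = MvPolynomial.C j * G := by
    simp only [← map_mul (mq)]
    rw [← map_sum, hQg, map_sum, Finset.mul_sum]
    refine Finset.sum_congr rfl fun i _ => ?_
    rw [map_mul, ← mul_assoc, ← MvPolynomial.C_mul, mul_comm j, ← hgen]
    congr 1
    exact MvPolynomial.map_C _ _
  obtain ⟨hclaim, -, -⟩ := flat_facts D P hsmall hj hjc
  have h1 : MvPolynomial.C j * (g' - G) ∈ maxR (Aq) P * kerD (qMap hp (LinearMap.ker l)) D P := by
    rw [mul_sub, ← hQg', ← hG, ← Finset.sum_sub_distrib]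
    refine Ideal.sum_mem _ fun s _ => ?_
    rw [← sub_mul]
    exact Ideal.mul_mem_mul (by rw [← ker_red, RingHom.mem_ker, map_sub, hQ', show red P (mq (Q q s)) = red P (Q q s) from red_map P mk _, hQ, sub_self])
      ((toD_map D P mk (qMap hp (LinearMap.ker l)) (fun _ => rfl) _).trans (hF s))
  have h2 : algebraMap P.toExtension.Ring B₀ (red P (g' - G)) = 0 := hclaim _ h1
  rw [map_sub, map_sub, sub_eq_zero] at h2
  rw [← hg', h2, map_sum, map_sum]
  refine Finset.sum_congr rfl fun i _ => ?_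
  rw [map_mul, map_mul, red_C, AlgHom.commutes, show red P (mq (g q i)) = red P (g q i) from red_map P mk _]
  congr 1
  exact (IsScalarTower.algebraMap_apply k P.toExtension.Ring B₀ _).symm

set_option maxHeartbeats 800000 in
/-- The obstructions form a linear map on the dual of the kernel. -/
theorem exists_obs_linear [Finite σ] (hp : Art.IsSemismallExt p)
    (u : (defFunctor (Λ := k) (Spec (CommRingCat.of B₀)) (str k B₀)).obj A) :
    ∃ Φ : Module.Dual k ↥(RingHom.ker p.toAlgHom) →ₗ[k] T2 P B₀,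
      ∀ l, l ≠ 0 → Φ l = 0 →
        ∃ u', (defFunctor (Λ := k) (Spec (CommRingCat.of B₀)) (str k B₀)).map (qMap hp (LinearMap.ker l)) u' = u := by
  classical
  cases nonempty_fintype σ
  induction u using Quotient.inductionOn with
  | h ξ =>
  obtain ⟨D, ⟨a⟩⟩ := AlgDef.exists_iso_toDefSch ξ
  haveI := Groth.Agent.ArtFunLib.isNoetherian_base A'
  haveI : Module.Finite k ↥(RingHom.ker p.toAlgHom) :=
    Module.Finite.of_injective ((RingHom.ker p.toAlgHom).restrictScalars k).subtype Subtype.val_injective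
  let b := Module.finBasis k ↥(RingHom.ker p.toAlgHom)
  choose F hF hFred using fun s => exists_red_eq (p := p) (D := D) P hp ⟨rel P s, P.relation_mem_ker s⟩
  replace hFred : ∀ s, red P (F s) = rel P s := hFred
  choose Q g hQ hQg using exists_gen_lifts D P hp b F hF hFred
  let v : Fin _ → relKer P → B₀ := fun i q => algebraMap P.toExtension.Ring B₀ (red P (g q i))
  choose δ hv hsmall hlift using exists_delta D P hp b F hF hFred Q g hQ hQg
  have hne : ∀ i, b.coord i ≠ 0 := fun i h => by
    have := LinearMap.congr_fun h (b i)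
    simp at this
  let δb := fun i => δ (b.coord i) (hne i)
  have hvb : ∀ i q, δb i (CotTLib.cl P q) = v i q := fun i q => by
    have h1 : ∀ m, b.coord i (b m) = if m = i then 1 else 0 := fun m => by
      rw [Module.Basis.coord_apply, b.repr_self, Finsupp.single_apply]
    rw [hv, Finset.sum_eq_single i]
    · rw [h1, if_pos rfl, map_one, one_mul]
    · intro m _ hm
      rw [h1, if_neg hm, map_zero, zero_mul]
    · exact fun h => absurd (Finset.mem_univ i) h
  let Φ : Module.Dual k ↥(RingHom.ker p.toAlgHom) →ₗ[k] T2 P B₀ :=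
    ∑ i, (Module.Dual.eval k _ (b i)).smulRight (toT2 P B₀ (δb i))
  refine ⟨Φ, fun l hl h0 => ?_⟩
  have hsum : δ l hl = ∑ i, algebraMap k B₀ (l (b i)) • δb i := LinearMap.ext fun z => by
    obtain ⟨q, rfl⟩ := CotTLib.cl_surjective P z
    rw [hv, LinearMap.sum_apply]
    exact Finset.sum_congr rfl fun i _ => by rw [LinearMap.smul_apply, hvb, smul_eq_mul]
  have hcls : toT2 P B₀ (δ l hl) = 0 := by
    rw [hsum, map_sum]
    refine Eq.trans (Finset.sum_congr rfl fun i _ => ?_) ((LinearMap.sum_apply _ _ l).symm.trans h0)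
    rw [map_smul, algebraMap_smul]
    rfl
  obtain ⟨D', f, hf⟩ := hlift l hl hcls
  exact ⟨D'.toDefSch.cl, Quotient.sound ⟨(hf.iso (hsmall l hl).1).trans a⟩⟩

end Groth.Agent.AffDefLib
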