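import Groth.Agent.AffDefLib.Basic
import Groth.Agent.DefGlueLib.Affine
import Groth.Agent.CotTLib.Basic
import Groth.Agent.ArtFunLib.Tangent

/-! The tangent space of the deformation functor of an affine scheme is `T¹`, linearly. -/

set_option linter.style.haveILetI false
set_option backward.isDefEq.respectTransparency false
set_option backward.isDefEq.respectTransparency.types false

universe u

open CategoryTheory CategoryTheory.Limits AlgebraicGeometry ArtFun TrivSqZeroExt

noncomputable section

namespace Groth.Agent.AffDefLib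

open Groth.Agent.DefGlueLib

attribute [local instance 10] SqExt.opModule SqExt.opCentral

section Kernel

variable {k : Type u} [Field k] {X : Scheme.{u}} [IsAffine X] {x : X ⟶ Art.specPt k}
variable {P : Type u} [CommRing P] [Algebra k P] [Algebra k Γ(X, ⊤)] [Algebra P Γ(X, ⊤)]
  [IsScalarTower k P Γ(X, ⊤)]
variable (hc : ∀ c : k, algebraMap k Γ(X, ⊤) c = DefGlueLib.str x (topAZ X) c)
variable (hs : Function.Surjective (algebraMap P Γ(X, ⊤)))

set_option maxHeartbeats 4000000 in
/-- A trivial first-order deformation comes from a derivation. -/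
theorem exists_derivation_of_tanOf_eq (h : SqExt.rel P Γ(X, ⊤) →ₗ[P] Γ(X, ⊤))
    (he : tanOf k hc hs h = tanOf k hc hs 0) :
    ∃ D : Derivation k P Γ(X, ⊤), ∀ g, h g = D g.1 := by
  let j := Algebra.linearMap k Γ(X, ⊤)
  obtain ⟨e⟩ := cl_eq_iff.1 he
  let R₀ := SqExt.E (0 : SqExt.rel P Γ(X, ⊤) →ₗ[P] Γ(X, ⊤))
  obtain ⟨φ, hφ⟩ : ∃ φ : R₀ →+* SqExt.E h, Spec.map (CommRingCat.ofHom φ) = e.iso.hom :=
    ⟨(Spec.preimage (R := CommRingCat.of R₀) (S := CommRingCat.of (SqExt.E h)) e.iso.hom).hom,
      Spec.map_preimage _⟩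
  have hfst := e.hom_f
  have hi := e.i_hom
  change e.iso.hom ≫ Spec.map (CommRingCat.ofHom (SqExt.coeff (0 : SqExt.rel P Γ(X, ⊤) →ₗ[P] Γ(X, ⊤)) j)) =
    Spec.map (CommRingCat.ofHom (SqExt.coeff h j)) at hfst
  change (X.isoSpec.hom ≫ Spec.map (CommRingCat.ofHom (SqExt.proj h))) ≫ e.iso.hom =
    X.isoSpec.hom ≫ Spec.map (CommRingCat.ofHom (SqExt.proj (0 : SqExt.rel P Γ(X, ⊤) →ₗ[P] Γ(X, ⊤)))) at hi
  rw [← hφ, ← Spec.map_comp, ← CommRingCat.ofHom_comp] at hfst
  rw [← hφ, Category.assoc, cancel_epi, ← Spec.map_comp, ← CommRingCat.ofHom_comp] at hi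
  have hφc : ∀ z, φ (SqExt.coeff _ j z) = SqExt.coeff h j z := fun z =>
    congr(CommRingCat.Hom.hom $(Spec.map_injective hfst) z)
  have hφp : ∀ r, SqExt.proj h (φ r) = SqExt.proj _ r := fun r =>
    congr(CommRingCat.Hom.hom $(Spec.map_injective hi) r)
  let hat₀ : P →+* R₀ := (SqExt.mkE _).comp (TrivSqZeroExt.inlHom P Γ(X, ⊤))
  let hat : P →+* SqExt.E h := (SqExt.mkE h).comp (TrivSqZeroExt.inlHom P Γ(X, ⊤))
  let σ : P →+* SqExt.E h := φ.comp hat₀
  have hσp : ∀ p, SqExt.proj h (σ p) = algebraMap P Γ(X, ⊤) p := fun p => (hφp _).trans (by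
    show SqExt.proj _ (SqExt.mkE _ (TrivSqZeroExt.inl p)) = _
    simp)
  have hhatp : ∀ p, SqExt.proj h (hat p) = algebraMap P Γ(X, ⊤) p := fun p => by
    show SqExt.proj _ (SqExt.mkE _ (TrivSqZeroExt.inl p)) = _
    simp
  choose d hd using fun p => SqExt.exists_incl h (σ p - hat p) (by rw [map_sub, hσp, hhatp, sub_self])
  have hadd : ∀ p q, d (p + q) = d p + d q := fun p q => SqExt.incl_injective h (by
    rw [map_add, hd, hd, hd, map_add, map_add]; abel)
  have hmul : ∀ p q, d (p * q) = p • d q + q • d p := fun p q => SqExt.incl_injective h (by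
    have e1 : σ p * (σ q - hat q) = SqExt.incl h (p • d q) := by
      rw [← hd, SqExt.mul_incl, hσp, algebraMap_smul]
    have e2 : hat q * (σ p - hat p) = SqExt.incl h (q • d p) := by
      rw [← hd, SqExt.mul_incl, hhatp, algebraMap_smul]
    rw [map_add, ← e1, ← e2, hd, map_mul, map_mul]
    ring)
  have hcst : ∀ c : k, d (algebraMap k P c) = 0 := fun c => SqExt.incl_injective h (by
    have h1 : hat₀ (algebraMap k P c) = SqExt.coeff _ j (TrivSqZeroExt.inl c) := by
      rw [SqExt.coeff_apply]
      show SqExt.mkE _ (TrivSqZeroExt.inl (algebraMap k P c)) = _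
      congr 1
      exact TrivSqZeroExt.ext (by simp) (by simp [j])
    have h2 : hat (algebraMap k P c) = SqExt.coeff h j (TrivSqZeroExt.inl c) := by
      rw [SqExt.coeff_apply]
      show SqExt.mkE _ (TrivSqZeroExt.inl (algebraMap k P c)) = _
      congr 1
      exact TrivSqZeroExt.ext (by simp) (by simp [j])
    rw [hd, map_zero, sub_eq_zero, h2, ← hφc, ← h1]
    rfl)
  let D : Derivation k P Γ(X, ⊤) :=
    { toFun := d
      map_add' := hadd
      map_smul' := fun c p => by
        rw [RingHom.id_apply, Algebra.smul_def, hmul, hcst, smul_zero, add_zero, algebraMap_smul]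
      map_one_eq_zero' := by
        show d 1 = 0
        rw [← map_one (algebraMap k P), hcst]
      leibniz' := hmul }
  refine ⟨D, fun g => SqExt.incl_injective h ?_⟩
  show _ = SqExt.incl h (d g.1)
  have hg0 : hat₀ g.1 = 0 := Ideal.Quotient.eq_zero_iff_mem.2 ⟨g, by simp⟩
  have hgh : hat g.1 = - SqExt.incl h (h g) := by
    rw [eq_neg_iff_add_eq_zero, SqExt.incl_apply]
    show SqExt.mkE h (TrivSqZeroExt.inl g.1) + SqExt.mkE h (TrivSqZeroExt.inr (h g)) = 0
    rw [← map_add]
    exact Ideal.Quotient.eq_zero_iff_mem.2 ⟨g, rfl⟩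
  rw [hd, hgh, show σ g.1 = 0 from (congrArg φ hg0).trans (map_zero φ), zero_sub, neg_neg]

end Kernel

variable {k : Type u} [Field k] (B₀ : Type u) [CommRing B₀] [Algebra k B₀]

theorem str_top_apply (c : k) :
    DefGlueLib.str (str k B₀) (topAZ (Spec (CommRingCat.of B₀))) c =
      (Scheme.ΓSpecIso (CommRingCat.of B₀)).inv (algebraMap k B₀ c) := by
  have e : CommRingCat.ofHom (DefGlueLib.str (str k B₀) (topAZ (Spec (CommRingCat.of B₀)))) =
      CommRingCat.ofHom (algebraMap k B₀) ≫ (Scheme.ΓSpecIso (CommRingCat.of B₀)).inv := by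
    refine Spec.map_injective ?_
    rw [Spec.map_comp, SpecMap_str]
    change (isAffineOpen_top (Spec (CommRingCat.of B₀))).fromSpec ≫ str k B₀ = _
    rw [IsAffineOpen.fromSpec_top, Scheme.isoSpec_Spec_inv]
  exact congr(CommRingCat.Hom.hom $e c)

set_option maxHeartbeats 4000000 in
theorem finrank_tangent {ι σ : Type u} (P : Algebra.Presentation k B₀ ι σ)
    [T : TangentStr (defFunctor (Λ := k) (Spec (CommRingCat.of B₀)) (str k B₀))] :
    Nonempty (TangentSpace (defFunctor (Λ := k) (Spec (CommRingCat.of B₀)) (str k B₀)) ≃ₗ[k] CotT.T1 P B₀) := by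
  let X := Spec (CommRingCat.of B₀)
  let e : B₀ ≃+* Γ(X, ⊤) := (Scheme.ΓSpecIso (CommRingCat.of B₀)).commRingCatIsoToRingEquiv.symm
  letI : Algebra k Γ(X, ⊤) := (DefGlueLib.str (str k B₀) (topAZ X)).toAlgebra
  letI : Algebra P.toExtension.Ring Γ(X, ⊤) := (e.toRingHom.comp (algebraMap P.toExtension.Ring B₀)).toAlgebra
  have hc : ∀ c : k, algebraMap k Γ(X, ⊤) c = DefGlueLib.str (str k B₀) (topAZ X) c := fun _ => rfl
  have hek : ∀ c : k, algebraMap k Γ(X, ⊤) c = e (algebraMap k B₀ c) := fun c => str_top_apply B₀ c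
  haveI : IsScalarTower k P.toExtension.Ring Γ(X, ⊤) := IsScalarTower.of_algebraMap_eq fun c => by
    rw [hek, IsScalarTower.algebraMap_apply k P.toExtension.Ring B₀ c]
    rfl
  have hs : Function.Surjective (algebraMap P.toExtension.Ring Γ(X, ⊤)) :=
    e.surjective.comp (CotTLib.algebraMap_surjective P)
  obtain ⟨Θ, hΘ⟩ := exists_linearMap k (x := str k B₀) (P := P.toExtension.Ring) hc hs
  have hsm : ∀ (a : P.toExtension.Ring) (z : Γ(X, ⊤)), a • z = e (algebraMap P.toExtension.Ring B₀ a) * z :=
    fun a z => Algebra.smul_def a z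
  have hmem : ∀ g : SqExt.rel P.toExtension.Ring Γ(X, ⊤), g.1 ∈ P.toExtension.ker := fun g => by
    refine RingHom.mem_ker.2 (e.injective ?_)
    rw [map_zero]
    exact g.2
  have hmem' : ∀ g : P.toExtension.ker, g.1 ∈ SqExt.rel P.toExtension.Ring Γ(X, ⊤) := fun g => by
    show e (algebraMap P.toExtension.Ring B₀ g.1) = 0
    rw [show algebraMap P.toExtension.Ring B₀ g.1 = 0 from g.2, map_zero]
  let N : (P.toExtension.Cotangent →ₗ[B₀] B₀) →ₗ[k] (SqExt.rel P.toExtension.Ring Γ(X, ⊤) →ₗ[P.toExtension.Ring] Γ(X, ⊤)) :=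
    { toFun := fun φ =>
        { toFun := fun g => e (φ (Algebra.Extension.Cotangent.mk ⟨g.1, hmem g⟩))
          map_add' := fun g g' => by
            rw [← map_add, ← map_add, ← map_add]
            rfl
          map_smul' := fun r g => by
            rw [RingHom.id_apply]
            have h1 : Algebra.Extension.Cotangent.mk ⟨(r • g).1, hmem _⟩ =
                algebraMap P.toExtension.Ring B₀ r • Algebra.Extension.Cotangent.mk (⟨g.1, hmem g⟩ : P.toExtension.ker) := by
              rw [algebraMap_smul, ← map_smul]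
              rfl
            rw [h1, map_smul, smul_eq_mul, map_mul]
            rfl }
      map_add' := fun φ ψ => LinearMap.ext fun g => map_add e _ _
      map_smul' := fun c φ => LinearMap.ext fun g => by
        show e (c • φ _) = c • e (φ _)
        rw [Algebra.smul_def, Algebra.smul_def, map_mul, hek] }
  have hN : ∀ φ g, N φ g = e (φ (Algebra.Extension.Cotangent.mk ⟨g.1, hmem g⟩)) := fun _ _ => rfl
  let M := Θ ∘ₗ N
  have hMs : Function.Surjective M := fun t => by
    obtain ⟨h, hh⟩ := tanOf_surjective (P := P.toExtension.Ring) hc hs (fun {R} _ _ q hq => by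
      refine ⟨MvPolynomial.aeval fun i => (hq (algebraMap P.toExtension.Ring Γ(X, ⊤) (MvPolynomial.X i))).choose,
        MvPolynomial.algHom_ext fun i => ?_⟩
      rw [AlgHom.comp_apply]
      exact (congrArg q (MvPolynomial.aeval_X _ i)).trans
        (hq (algebraMap P.toExtension.Ring Γ(X, ⊤) (MvPolynomial.X i))).choose_spec) t
    let ψ : P.toExtension.ker → B₀ := fun g => e.symm (h ⟨g.1, hmem' g⟩)
    have ψadd : ∀ g g', ψ (g + g') = ψ g + ψ g' := fun g g' => by
      show e.symm _ = e.symm _ + e.symm _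
      rw [← map_add, ← map_add]
      rfl
    have ψsmul : ∀ (r : P.toExtension.Ring) g, ψ (r • g) = algebraMap P.toExtension.Ring B₀ r * ψ g := fun r g => by
      show e.symm (h ⟨(r • g).1, _⟩) = _
      rw [show (⟨(r • g).1, hmem' (r • g)⟩ : SqExt.rel P.toExtension.Ring Γ(X, ⊤)) = r • ⟨g.1, hmem' g⟩ from rfl,
        map_smul, Algebra.smul_def, map_mul]
      congr 1
      exact e.symm_apply_apply _
    let Ψ : P.toExtension.ker →ₗ[P.toExtension.Ring] B₀ :=
      { toFun := ψ, map_add' := ψadd, map_smul' := fun r g => by rw [ψsmul, RingHom.id_apply, Algebra.smul_def] }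
    have hsurj := Algebra.Extension.Cotangent.mk_surjective (P := P.toExtension)
    have hwd : ∀ g g' : P.toExtension.ker, Algebra.Extension.Cotangent.mk g = Algebra.Extension.Cotangent.mk g' →
        Ψ g = Ψ g' := fun g g' hg => by
      rw [← sub_eq_zero, ← map_sub]
      have h2 : (g.1 - g'.1) ∈ P.toExtension.ker ^ 2 := by
        rw [← sub_eq_zero, ← map_sub, ← LinearMap.mem_ker, Algebra.Extension.Cotangent.ker_mk] at hg
        rw [pow_two, ← smul_eq_mul]
        exact (Submodule.mem_smul_top_iff _ _ _).1 hg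
      rw [pow_two] at h2
      suffices ∀ a ∈ P.toExtension.ker * P.toExtension.ker, ∃ ha : a ∈ P.toExtension.ker, Ψ ⟨a, ha⟩ = 0 by
        obtain ⟨ha, h0⟩ := this _ h2
        exact h0
      intro a ha
      refine Submodule.mul_induction_on ha (fun u hu v hv => ?_) fun u v hu hv => ?_
      · refine ⟨Ideal.mul_mem_left _ u hv, ?_⟩
        rw [show (⟨u * v, _⟩ : P.toExtension.ker) = u • ⟨v, hv⟩ from rfl, map_smul, Algebra.smul_def,
          show algebraMap P.toExtension.Ring B₀ u = 0 from hu, zero_mul]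
      · obtain ⟨hu, hu'⟩ := hu
        obtain ⟨hv, hv'⟩ := hv
        exact ⟨add_mem hu hv, (map_add Ψ ⟨u, hu⟩ ⟨v, hv⟩).trans (by rw [hu', hv', add_zero])⟩
    let φ : P.toExtension.Cotangent →ₗ[B₀] B₀ :=
      { toFun := fun c => Ψ (Function.surjInv hsurj c)
        map_add' := fun c c' => by
          rw [← map_add]
          exact hwd _ _ (by rw [map_add, Function.surjInv_eq hsurj, Function.surjInv_eq hsurj, Function.surjInv_eq hsurj])
        map_smul' := fun b c => by
          obtain ⟨r, rfl⟩ := CotTLib.algebraMap_surjective P b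
          rw [RingHom.id_apply, smul_eq_mul, ← Algebra.smul_def, ← map_smul]
          exact hwd _ _ (by rw [map_smul, Function.surjInv_eq hsurj, Function.surjInv_eq hsurj, algebraMap_smul]) }
    refine ⟨φ, ?_⟩
    show Θ (N φ) = t
    rw [← hh, ← hΘ]
    congr 1
    refine LinearMap.ext fun g => ?_
    rw [hN]
    show e (Ψ _) = _
    rw [hwd _ ⟨g.1, hmem g⟩ (Function.surjInv_eq hsurj _)]
    exact e.apply_symm_apply _
  have hker : LinearMap.ker M = (LinearMap.range (LinearMap.lcomp B₀ B₀ P.toExtension.cotangentComplex)).restrictScalars k := by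
    refine le_antisymm (fun φ hφ => ?_) ?_
    · have h0 : tanOf k hc hs (N φ) = tanOf k hc hs 0 := by
        rw [← hΘ, ← hΘ, map_zero]
        exact hφ
      obtain ⟨D, hD⟩ := exists_derivation_of_tanOf_eq hc hs _ h0
      let θ : CotT.L0 P →ₗ[B₀] B₀ := P.cotangentSpaceBasis.constr B₀ fun i => e.symm (D (MvPolynomial.X i))
      have hθ : ∀ r : P.toExtension.Ring, θ (CotTLib.oneD P r) = e.symm (D r) := by
        intro r
        induction r using MvPolynomial.induction_on with
        | C c =>
          rw [show (MvPolynomial.C c : P.toExtension.Ring) = algebraMap k P.toExtension.Ring c from rfl,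
            CotTLib.oneD_apply, Derivation.map_algebraMap, TensorProduct.tmul_zero, map_zero,
            Derivation.map_algebraMap, map_zero]
        | add a b ha hb => rw [map_add, map_add, ha, hb, map_add, map_add]
        | mul_X a i ha =>
          have e1 : CotTLib.oneD P (CotTLib.var P i) = P.cotangentSpaceBasis i :=
            (Algebra.Generators.cotangentSpaceBasis_apply P.toGenerators i).symm
          rw [CotTLib.oneD_mul, map_add, map_smul, map_smul, ha, D.leibniz, map_add, hsm, hsm, map_mul, map_mul,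
            e.symm_apply_apply, e.symm_apply_apply, smul_eq_mul, smul_eq_mul]
          refine congrArg (· + _) (congrArg (_ * ·) ?_)
          exact (congrArg θ e1).trans (Module.Basis.constr_basis _ _ _ _)
      refine ⟨θ, LinearMap.ext fun c => ?_⟩
      obtain ⟨g, rfl⟩ := Algebra.Extension.Cotangent.mk_surjective c
      rw [LinearMap.lcomp_apply, Algebra.Extension.cotangentComplex_mk]
      refine (hθ g.1).trans ?_
      rw [← hD ⟨g.1, hmem' g⟩, hN]
      exact e.symm_apply_apply _
    · rintro φ ⟨θ, rfl⟩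
      let D : Derivation k P.toExtension.Ring Γ(X, ⊤) :=
        { toFun := fun r => e (θ (CotTLib.oneD P r))
          map_add' := fun a b => by rw [map_add, map_add, map_add]
          map_smul' := fun c r => by
            show e (θ (CotTLib.oneD P (c • r))) = c • e (θ (CotTLib.oneD P r))
            rw [map_smul, LinearMap.map_smul_of_tower, Algebra.smul_def, Algebra.smul_def, map_mul, hek]
          map_one_eq_zero' := by
            show e (θ (CotTLib.oneD P 1)) = 0
            rw [CotTLib.oneD_apply, Derivation.map_one_eq_zero, TensorProduct.tmul_zero, map_zero, map_zero]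
          leibniz' := fun a b => by
            show e (θ (CotTLib.oneD P (a * b))) = a • e (θ (CotTLib.oneD P b)) + b • e (θ (CotTLib.oneD P a))
            rw [CotTLib.oneD_mul, map_add, map_smul, map_smul, map_add, hsm, hsm, smul_eq_mul, smul_eq_mul,
              map_mul, map_mul] }
      rw [LinearMap.mem_ker]
      show Θ (N _) = 0
      rw [← map_zero Θ, hΘ, hΘ]
      refine (tanOf_shift hc hs 0 _ D fun g => ?_).symm
      rw [LinearMap.zero_apply, zero_add, hN, LinearMap.lcomp_apply, Algebra.Extension.cotangentComplex_mk]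
      rfl
  let e₁ := M.quotKerEquivOfSurjective hMs
  let H := (CotT.homToT1 P B₀).restrictScalars k
  let e₂ := H.quotKerEquivOfSurjective (CotTLib.homToT1_surjective P B₀)
  refine ⟨e₁.symm.trans ((Submodule.quotEquivOfEq _ _ ?_).trans e₂)⟩
  rw [hker, LinearMap.ker_restrictScalars, CotTLib.ker_homToT1]

end Groth.Agent.AffDefLib
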